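import Mathlib

set_option linter.unusedSectionVars false
set_option linter.style.haveILetI false

universe u v w

namespace Groth.Agent.Dieud53

section Range
variable {p : ℕ} [Fact p.Prime] {k : Type u} [Field k] [CharP k p] [PerfectRing k p]
variable {N : Type w} [AddCommGroup N] [Module (WittVector p k) N]
variable (V : N →+ N) (hV : ∀ (a : WittVector p k) (n : N), V (WittVector.frobenius a • n) = a • V n)

/-- The range of an inverse-Frobenius-semilinear map as a submodule. -/
def vRange : Submodule (WittVector p k) N where
  carrier := Set.range V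
  add_mem' := by rintro _ _ ⟨a, rfl⟩ ⟨b, rfl⟩; exact ⟨a + b, map_add V a b⟩
  zero_mem' := ⟨0, map_zero V⟩
  smul_mem' := by rintro a _ ⟨n, rfl⟩; exact ⟨WittVector.frobenius a • n, hV a n⟩

theorem span_range_eq : Submodule.span (WittVector p k) (Set.range V) = vRange V hV :=
  (vRange V hV).span_eq

end Range

section Length
variable {R : Type u} [CommRing R] (I : Ideal R) [I.IsMaximal]

theorem isSemisimpleModule_of_killed (X : Type v) [AddCommGroup X] [Module R X]
    (hX : Module.IsTorsionBySet R X I) : IsSemisimpleModule R X := by
  letI := hX.module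
  letI : Field (R ⧸ I) := Ideal.Quotient.field I
  exact hX.isSemisimpleModule_iff.1 inferInstance

/-- Length of a module of homomorphisms between modules killed by a maximal ideal. -/
theorem length_hom_of_killed (X : Type v) [AddCommGroup X] [Module R X] (Y : Type w)
    [AddCommGroup Y] [Module R Y] (hX : Module.IsTorsionBySet R X I) (hY : Module.IsTorsionBySet R Y I)
    (a b : ℕ) (ha : Module.length R X = a) (hb : Module.length R Y = b) :
    Module.length R (X →ₗ[R] Y) = (b * a : ℕ) := by
  letI := hX.module
  letI := hY.module
  letI : Field (R ⧸ I) := Ideal.Quotient.field I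
  haveI : IsScalarTower R (R ⧸ I) X := hX.isScalarTower
  haveI : IsScalarTower R (R ⧸ I) Y := hY.isScalarTower
  have hsur : Function.Surjective (algebraMap R (R ⧸ I)) := Ideal.Quotient.mk_surjective
  rw [Module.length_eq_of_surjective (R := R ⧸ I) hsur] at ha hb
  haveI hfX : Module.Finite (R ⧸ I) X := by
    haveI := (isFiniteLength_iff_isNoetherian_isArtinian.1
      (Module.length_ne_top_iff.1 (show Module.length (R ⧸ I) X ≠ ⊤ by simp [ha]))).1
    infer_instance
  haveI hfY : Module.Finite (R ⧸ I) Y := by
    haveI := (isFiniteLength_iff_isNoetherian_isArtinian.1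
      (Module.length_ne_top_iff.1 (show Module.length (R ⧸ I) Y ≠ ⊤ by simp [hb]))).1
    infer_instance
  have hXr : Module.finrank (R ⧸ I) X = a := by
    rw [Module.length_eq_finrank] at ha; exact_mod_cast ha
  have hYr : Module.finrank (R ⧸ I) Y = b := by
    rw [Module.length_eq_finrank] at hb; exact_mod_cast hb
  have e : (X →ₗ[R] Y) ≃ₗ[R] (X →ₗ[R ⧸ I] Y) := LinearMap.extendScalarsOfSurjectiveEquiv hsur
  rw [e.length_eq, Module.length_eq_of_surjective (R := R ⧸ I) hsur, Module.length_eq_finrank,
    Module.finrank_linearMap, hXr, hYr, mul_comm]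

theorem length_quot_smul_top [Nontrivial R] (M : Type v) [AddCommGroup M] [Module R M]
    [Module.Free R M] [Module.Finite R M] :
    Module.length R (M ⧸ I • (⊤ : Submodule R M)) = Module.finrank R M := by
  letI : Field (R ⧸ I) := Ideal.Quotient.field I
  have hsur : Function.Surjective (algebraMap R (R ⧸ I)) := Ideal.Quotient.mk_surjective
  rw [← (TensorProduct.quotTensorEquivQuotSMul M I).length_eq,
    Module.length_eq_of_surjective (R := R ⧸ I) hsur, Module.length_eq_finrank,
    Module.finrank_baseChange]

end Length

end Groth.Agent.Dieud53
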